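import Cfsg.Agent.PLocal.Thompson
import Mathlib.Algebra.BigOperators.GroupWithZero.Action

/-! Elementary abelian subgroups of largest order. -/

set_option autoImplicit false
set_option linter.style.haveILetI false

namespace Cfsg.Agent.MaxElem

universe u

variable {S : Type u} [Group S] [Finite S] {p : ℕ}

/-- An element of exponent `p` commuting with a maximal elementary abelian subgroup lies in it. -/
theorem mem_of_max {A : Subgroup S} (hA : A ∈ maxElementaryAbelianSubgroups p S) {x : S}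
    (hx : x ∈ Subgroup.centralizer (A : Set S)) (hxp : x ^ p = 1) : x ∈ A := by
  let B := Subgroup.closure (insert x (A : Set S))
  have hcomm : ∀ a ∈ insert x (A : Set S), ∀ b ∈ insert x (A : Set S), a * b = b * a := by
    intro a ha b hb
    rcases Set.mem_insert_iff.mp ha with ha | ha <;> rcases Set.mem_insert_iff.mp hb with hb | hb
    · rw [ha, hb]
    · rw [ha]; exact (Subgroup.mem_centralizer_iff.mp hx b hb).symm
    · rw [hb]; exact Subgroup.mem_centralizer_iff.mp hx a ha
    · exact congrArg Subtype.val (hA.1.1.is_comm.comm ⟨a, ha⟩ ⟨b, hb⟩)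
  haveI : IsMulCommutative B := Subgroup.isMulCommutative_closure hcomm
  have hBp : ∀ b ∈ B, b ^ p = 1 := by
    intro b hb
    induction hb using Subgroup.closure_induction with
    | mem y hy =>
      rcases Set.mem_insert_iff.mp hy with rfl | hy
      · exact hxp
      · exact hA.1.2 y hy
    | one => exact one_pow p
    | mul a b ha hb iha ihb =>
      have hab : a * b = b * a := congrArg Subtype.val (mul_comm' (⟨a, ha⟩ : B) ⟨b, hb⟩)
      rw [Commute.mul_pow hab, iha, ihb, one_mul]
    | inv a _ iha => rw [inv_pow, iha, inv_one]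
  have hle : A ≤ B := fun a ha => Subgroup.subset_closure (Set.mem_insert_of_mem _ ha)
  have heq : A = B := Subgroup.eq_of_le_of_card_ge hle (hA.2 B ⟨inferInstance, hBp⟩)
  exact heq.ge (Subgroup.subset_closure (Set.mem_insert _ _))

/-- If `U` contains a largest elementary abelian subgroup, `J(U)` is generated by those inside `U`. -/
theorem thompsonOf_eq {U A0 : Subgroup S} (h0 : A0 ∈ maxElementaryAbelianSubgroups p S) (hle : A0 ≤ U) :
    thompsonSubgroupOf p U = sSup {A | A ∈ maxElementaryAbelianSubgroups p S ∧ A ≤ U} := by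
  have hmap : ∀ A : Subgroup S, A ≤ U → IsElementaryAbelian p A → IsElementaryAbelian p (A.subgroupOf U) := by
    intro A hA h
    refine ⟨⟨⟨fun a b => Subtype.ext (Subtype.ext ?_)⟩⟩, fun a ha => Subtype.ext ?_⟩
    · have e := congrArg Subtype.val
        (h.1.is_comm.comm (⟨((a : ↥U) : S), a.2⟩ : A) ⟨((b : ↥U) : S), b.2⟩)
      exact e
    · exact h.2 _ ha
  have hup : ∀ B : Subgroup ↥U, IsElementaryAbelian p B → IsElementaryAbelian p (B.map U.subtype) :=
    fun B hB => PLocal.isElementaryAbelian_map _ hB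
  refine le_antisymm ?_ (sSup_le fun A hA => ?_)
  · refine Subgroup.map_le_iff_le_comap.mpr (sSup_le fun B hB => Subgroup.map_le_iff_le_comap.mp ?_)
    refine le_sSup ⟨⟨hup B hB.1, fun C hC => ?_⟩, Subgroup.map_subtype_le B⟩
    rw [Subgroup.card_map_of_injective U.subtype_injective]
    refine (h0.2 C hC).trans ?_
    rw [← Nat.card_congr (Subgroup.subgroupOfEquivOfLe hle).toEquiv]
    exact hB.2 _ (hmap A0 hle h0.1)
  · rw [← Subgroup.map_subgroupOf_eq_of_le hA.2]
    refine Subgroup.map_mono (le_sSup ⟨hmap A hA.2 hA.1.1, fun B hB => ?_⟩)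
    rw [Nat.card_congr (Subgroup.subgroupOfEquivOfLe hA.2).toEquiv,
      ← Subgroup.card_map_of_injective U.subtype_injective (K := B)]
    exact hA.1.2 _ (hup B hB)

theorem card_mul_inf {B C : Subgroup S} (h : ∀ b ∈ B, ∀ c ∈ C, b * c = c * b) :
    Nat.card ↥B * Nat.card ↥C = Nat.card ↥(B ⊔ C) * Nat.card ↥(B ⊓ C) := by
  let φ : ↥B × ↥C →* S :=
    { toFun := fun x => (x.1 : S) * x.2
      map_one' := one_mul 1
      map_mul' := fun x y => by
        show ((x.1 : S) * y.1) * ((x.2 : S) * y.2) = ((x.1 : S) * x.2) * ((y.1 : S) * y.2)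
        rw [mul_assoc (x.1 : S) y.1, ← mul_assoc (y.1 : S) x.2, h y.1 y.1.2 x.2 x.2.2]
        group }
  have hr : φ.range = B ⊔ C := by
    refine le_antisymm ?_ (sup_le (fun b hb => ⟨(⟨b, hb⟩, 1), mul_one b⟩) fun c hc => ⟨(1, ⟨c, hc⟩), one_mul c⟩)
    rintro _ ⟨x, rfl⟩
    exact mul_mem (Subgroup.mem_sup_left x.1.2) (Subgroup.mem_sup_right x.2.2)
  let e : ↥φ.ker ≃ ↥(B ⊓ C) :=
    { toFun := fun x => ⟨(x.1.1 : S), x.1.1.2, by
        rw [eq_inv_of_mul_eq_one_left (x.2 : (x.1.1 : S) * x.1.2 = 1)]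
        exact C.inv_mem x.1.2.2⟩
      invFun := fun y => ⟨(⟨y, y.2.1⟩, ⟨(y : S)⁻¹, C.inv_mem y.2.2⟩), show (y : S) * (y : S)⁻¹ = 1 from mul_inv_cancel _⟩
      left_inv := fun x => Subtype.ext (Prod.ext rfl (Subtype.ext
        (inv_eq_of_mul_eq_one_right (x.2 : (x.1.1 : S) * x.1.2 = 1))))
      right_inv := fun y => rfl }
  rw [← Nat.card_prod, Subgroup.card_eq_card_quotient_mul_card_subgroup φ.ker,
    Nat.card_congr (QuotientGroup.quotientKerEquivRange φ).toEquiv, Nat.card_congr e, hr]

end Cfsg.Agent.MaxElem
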