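import Cfsg.Prelude.Def_PLocal
import Mathlib.GroupTheory.Sylow
import Mathlib.Tactic.Group

/-! `Ω₁`, the Thompson subgroup and `Ω₁(Z(J(P)))`: functoriality and elementary facts. -/

set_option autoImplicit false

namespace Cfsg.Agent.PLocal

universe u

variable {G H : Type*} [Group G] [Group H] {p : ℕ}

theorem omegaOne_le (K : Subgroup G) : omegaOne p K ≤ K :=
  (Subgroup.closure_le K).mpr fun _ hx => hx.1

theorem mem_omegaOne {K : Subgroup G} {x : G} (hx : x ∈ K) (hxp : x ^ p = 1) : x ∈ omegaOne p K :=
  Subgroup.subset_closure ⟨hx, hxp⟩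

theorem omegaOne_mono {K L : Subgroup G} (h : K ≤ L) : omegaOne p K ≤ omegaOne p L :=
  Subgroup.closure_mono fun _ hx => ⟨h hx.1, hx.2⟩

theorem omegaOne_map {f : G →* H} (hf : Function.Injective f) (K : Subgroup G) :
    omegaOne p (K.map f) = (omegaOne p K).map f := by
  rw [omegaOne, omegaOne, MonoidHom.map_closure]
  congr 1
  ext y
  constructor
  · rintro ⟨⟨x, hx, rfl⟩, hy⟩
    exact ⟨x, ⟨hx, hf (by rw [map_pow, hy, map_one])⟩, rfl⟩
  · rintro ⟨x, ⟨hx, hxp⟩, rfl⟩
    exact ⟨Subgroup.mem_map_of_mem _ hx, by rw [← map_pow, hxp, map_one]⟩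

theorem omegaOne_normal {K : Subgroup G} (hK : K.Normal) : (omegaOne p K).Normal := by
  refine ⟨fun x hx g => ?_⟩
  have h : (omegaOne p K).map (MulAut.conj g).toMonoidHom = omegaOne p K := by
    rw [← omegaOne_map (MulAut.conj g).injective]
    congr 1
    ext y
    constructor
    · rintro ⟨z, hz, rfl⟩
      exact hK.conj_mem z hz g
    · intro hy
      refine ⟨g⁻¹ * y * g, ?_, by simp [mul_assoc]⟩
      simpa using hK.conj_mem y hy g⁻¹
  exact h.le (Subgroup.mem_map_of_mem _ hx)

theorem map_inf_centralizer_self {f : G →* H} (hf : Function.Injective f) (K : Subgroup G) :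
    (K ⊓ Subgroup.centralizer (K : Set G)).map f =
      K.map f ⊓ Subgroup.centralizer ((K.map f : Subgroup H) : Set H) := by
  ext y
  constructor
  · rintro ⟨x, ⟨hx, hxc⟩, rfl⟩
    refine ⟨Subgroup.mem_map_of_mem _ hx, Subgroup.mem_centralizer_iff.mpr ?_⟩
    rintro _ ⟨z, hz, rfl⟩
    rw [← map_mul, ← map_mul, Subgroup.mem_centralizer_iff.mp hxc z hz]
  · rintro ⟨⟨x, hx, rfl⟩, hxc⟩
    refine ⟨x, ⟨hx, Subgroup.mem_centralizer_iff.mpr fun z hz => hf ?_⟩, rfl⟩
    rw [map_mul, map_mul]
    exact Subgroup.mem_centralizer_iff.mp hxc _ (Subgroup.mem_map_of_mem _ hz)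

theorem inf_centralizer_self_normal {K : Subgroup G} (hK : K.Normal) :
    (K ⊓ Subgroup.centralizer (K : Set G)).Normal := by
  haveI := hK
  infer_instance

/-- The image of `Ω₁(Z(J(S)))` in a group where the image of `J(S)` is normal. -/
theorem omegaCenterThompson_map_normal {S : Type*} [Group S] {f : S →* H} (hf : Function.Injective f)
    (hJ : ((thompsonSubgroup p S).map f).Normal) : ((omegaCenterThompson p S).map f).Normal := by
  rw [omegaCenterThompson, ← omegaOne_map hf, map_inf_centralizer_self hf]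
  exact omegaOne_normal (inf_centralizer_self_normal hJ)

section Iso

variable {S T : Type u} [Group S] [Group T]

theorem isElementaryAbelian_map (f : S →* T) {A : Subgroup S} (hA : IsElementaryAbelian p A) :
    IsElementaryAbelian p (A.map f) := by
  refine ⟨?_, ?_⟩
  · haveI := hA.1
    infer_instance
  · rintro _ ⟨a, ha, rfl⟩
    rw [← map_pow, hA.2 a ha, map_one]

theorem map_maxElementaryAbelian (e : S ≃* T) {A : Subgroup S}
    (hA : A ∈ maxElementaryAbelianSubgroups p S) :
    A.map e.toMonoidHom ∈ maxElementaryAbelianSubgroups p T := by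
  refine ⟨isElementaryAbelian_map _ hA.1, fun B hB => ?_⟩
  have h := hA.2 _ (isElementaryAbelian_map e.symm.toMonoidHom hB)
  rw [Subgroup.card_map_of_injective e.symm.injective] at h
  rwa [Subgroup.card_map_of_injective e.injective]

theorem map_thompsonSubgroup (e : S ≃* T) :
    (thompsonSubgroup p S).map e.toMonoidHom = thompsonSubgroup p T := by
  refine le_antisymm ?_ ?_
  · rw [Subgroup.map_le_iff_le_comap]
    exact sSup_le fun A hA => Subgroup.map_le_iff_le_comap.mp (le_sSup (map_maxElementaryAbelian e hA))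
  · refine sSup_le fun B hB => ?_
    have h : (B.map e.symm.toMonoidHom).map e.toMonoidHom ≤ (thompsonSubgroup p S).map e.toMonoidHom :=
      Subgroup.map_mono (le_sSup (map_maxElementaryAbelian e.symm hB))
    intro x hx
    have := h (Subgroup.mem_map_of_mem _ (Subgroup.mem_map_of_mem _ hx))
    simpa using this

theorem map_omegaCenterThompson (e : S ≃* T) :
    (omegaCenterThompson p S).map e.toMonoidHom = omegaCenterThompson p T := by
  rw [omegaCenterThompson, omegaCenterThompson, ← omegaOne_map e.injective,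
    map_inf_centralizer_self e.injective, map_thompsonSubgroup]

theorem map_center (e : S ≃* T) : (Subgroup.center S).map e.toMonoidHom = Subgroup.center T := by
  ext y
  constructor
  · rintro ⟨x, hx, rfl⟩
    refine Subgroup.mem_center_iff.mpr fun g => ?_
    have := congrArg e (Subgroup.mem_center_iff.mp hx (e.symm g))
    simpa using this
  · intro hy
    refine ⟨e.symm y, Subgroup.mem_center_iff.mpr fun g => e.injective ?_, by simp⟩
    simpa using Subgroup.mem_center_iff.mp hy (e g)

theorem exists_maxElementaryAbelian (p : ℕ) (S : Type u) [Group S] [Finite S] :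
    ∃ A : Subgroup S, A ∈ maxElementaryAbelianSubgroups p S := by
  obtain ⟨A, hA, hmax⟩ := Set.exists_max_image {A : Subgroup S | IsElementaryAbelian p A}
    (fun A => Nat.card A) (Set.toFinite _)
    ⟨⊥, inferInstance, fun a ha => by rw [Subgroup.mem_bot.mp ha, one_pow]⟩
  exact ⟨A, hA, hmax⟩

/-- `Ω₁(Z(P))` lies in every elementary abelian subgroup of largest order. -/
theorem omegaOne_center_le_of_max [Finite S] {A : Subgroup S}
    (hA : A ∈ maxElementaryAbelianSubgroups p S) : omegaOne p (Subgroup.center S) ≤ A := by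
  refine (Subgroup.closure_le A).mpr fun x ⟨hx, hxp⟩ => ?_
  let B := Subgroup.closure (insert x (A : Set S))
  have hcomm : ∀ a ∈ insert x (A : Set S), ∀ b ∈ insert x (A : Set S), a * b = b * a := by
    intro a ha b hb
    rcases Set.mem_insert_iff.mp ha with ha | ha
    · rw [ha]; exact (Subgroup.mem_center_iff.mp hx b).symm
    rcases Set.mem_insert_iff.mp hb with hb | hb
    · rw [hb]; exact Subgroup.mem_center_iff.mp hx a
    · exact congrArg Subtype.val (hA.1.1.is_comm.comm ⟨a, ha⟩ ⟨b, hb⟩)
  haveI : IsMulCommutative B := Subgroup.isMulCommutative_closure hcomm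
  have hBp : ∀ b ∈ B, b ^ p = 1 := by
    intro b hb
    induction hb using Subgroup.closure_induction with
    | mem y hy =>
      rcases Set.mem_insert_iff.mp hy with rfl | hy
      · exact hxp
      · exact hA.1.2 y hy
    | one => exact one_pow p
    | mul a b ha hb iha ihb =>
      have hab : a * b = b * a := congrArg Subtype.val (mul_comm' (⟨a, ha⟩ : B) ⟨b, hb⟩)
      rw [Commute.mul_pow hab, iha, ihb, one_mul]
    | inv a _ iha => rw [inv_pow, iha, inv_one]
  have hle : A ≤ B := fun a ha => Subgroup.subset_closure (Set.mem_insert_of_mem _ ha)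
  have heq : A = B := Subgroup.eq_of_le_of_card_ge hle (hA.2 B ⟨inferInstance, hBp⟩)
  exact heq.ge (Subgroup.subset_closure (Set.mem_insert _ _))

theorem omegaOne_center_le_omegaCenterThompson (p : ℕ) (S : Type u) [Group S] [Finite S] :
    omegaOne p (Subgroup.center S) ≤ omegaCenterThompson p S := by
  obtain ⟨A, hA⟩ := exists_maxElementaryAbelian p S
  refine (Subgroup.closure_le _).mpr fun x ⟨hx, hxp⟩ => mem_omegaOne ⟨?_, ?_⟩ hxp
  · exact (le_sSup hA : A ≤ thompsonSubgroup p S) (omegaOne_center_le_of_max hA (mem_omegaOne hx hxp))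
  · exact Subgroup.mem_centralizer_iff.mpr fun z _ => Subgroup.mem_center_iff.mp hx z

end Iso

end Cfsg.Agent.PLocal
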